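import Cfsg.Agent.Lib.Solvable.EPPO
import Cfsg.Agent.Lib.Core.Basic

/-!
# Higman's structure theorem for nonsolvable groups with elements of prime power order
-/

set_option autoImplicit false

open scoped Pointwise

namespace Cfsg.Agent.Lib.Solvable.EPPO2

open Cfsg Cfsg.Agent.Lib.Solvable.Basic Cfsg.Agent.Lib.Core.Basic

variable {G : Type*} [Group G]

/-- Elements of prime-power order: two commuting nontrivial elements of coprime orders do not
exist. -/
theorem false_of_commute_coprime (hpp : ∀ g : G, g ≠ 1 → IsPrimePow (orderOf g)) {x y : G}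
    (hx : x ≠ 1) (hy : y ≠ 1) (hc : Commute x y) (hco : (orderOf x).Coprime (orderOf y)) : False := by
  have h1 := hc.orderOf_mul_eq_mul_orderOf_of_coprime hco
  have hxy : x * y ≠ 1 := by
    intro h
    have := congrArg orderOf h
    rw [h1, orderOf_one] at this
    have hx1 := Nat.eq_one_of_mul_eq_one_right this
    exact hx (orderOf_eq_one_iff.mp hx1)
  obtain ⟨t, k, ht, hk, hk'⟩ := (isPrimePow_nat_iff _).mp (hpp _ hxy)
  rw [h1] at hk'
  have hxd : orderOf x ∣ t ^ k := hk' ▸ Dvd.intro _ rfl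
  have hyd : orderOf y ∣ t ^ k := hk' ▸ Dvd.intro_left _ rfl
  obtain ⟨i, -, hi⟩ := (Nat.dvd_prime_pow (Nat.prime_iff.mpr ht.prime)).mp hxd
  obtain ⟨j, -, hj⟩ := (Nat.dvd_prime_pow (Nat.prime_iff.mpr ht.prime)).mp hyd
  have hi0 : i ≠ 0 := by
    rintro rfl
    rw [pow_zero, orderOf_eq_one_iff] at hi
    exact hx hi
  have hj0 : j ≠ 0 := by
    rintro rfl
    rw [pow_zero, orderOf_eq_one_iff] at hj
    exact hy hj
  rw [hi, hj] at hco
  have h2 : t ∣ Nat.gcd (t ^ i) (t ^ j) := Nat.dvd_gcd (dvd_pow_self t hi0) (dvd_pow_self t hj0)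
  rw [hco] at h2
  exact (Nat.prime_iff.mpr ht.prime).one_lt.ne' (Nat.dvd_one.mp h2)

/-- An element whose order involves only the prime `q`. -/
theorem exists_pow_of_commuting [Finite G] (hpp : ∀ g : G, g ≠ 1 → IsPrimePow (orderOf g))
    {q : ℕ} (hq : q.Prime) {y z : G} (hy1 : y ≠ 1) (hyo : orderOf y = q) (hc : Commute z y) :
    ∃ k, orderOf z = q ^ k := by
  refine ⟨_, Nat.eq_prime_pow_of_unique_prime_dvd (orderOf_pos z).ne' ?_⟩
  intro t ht htd
  by_contra htq
  set z' := z ^ (orderOf z / t) with hz'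
  have hz'o : orderOf z' = t := by
    have h1 := orderOf_pow_orderOf_div (orderOf_pos z).ne' htd
    exact h1
  have hz'1 : z' ≠ 1 := by
    intro h
    rw [h, orderOf_one] at hz'o
    exact ht.one_lt.ne hz'o
  refine false_of_commute_coprime hpp hz'1 hy1 (hc.pow_left _) ?_
  rw [hz'o, hyo]
  exact (Nat.coprime_primes ht hq).mpr htq

/-- If `L` and `L'` commute elementwise, `L'` nontrivial, then `L` is a `q`-group. -/
theorem isPGroup_of_commuting [Finite G] (hpp : ∀ g : G, g ≠ 1 → IsPrimePow (orderOf g))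
    {L L' : Subgroup G} (hcomm : ∀ x ∈ L, ∀ y ∈ L', x * y = y * x) (hL' : L' ≠ ⊥) :
    ∃ q : ℕ, q.Prime ∧ IsPGroup q L := by
  classical
  have hnt : Nontrivial L' := (Subgroup.nontrivial_iff_ne_bot L').mpr hL'
  obtain ⟨q, hq, hqd⟩ : ∃ q, q.Prime ∧ q ∣ Nat.card L' :=
    ⟨(Nat.card L').minFac, Nat.minFac_prime Finite.one_lt_card.ne', Nat.minFac_dvd _⟩
  have hfact : Fact q.Prime := ⟨hq⟩
  obtain ⟨y, hy⟩ := exists_prime_orderOf_dvd_card' (G := L') q hqd
  have hy' : orderOf (y : G) = q := by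
    rw [Subgroup.orderOf_coe]
    exact hy
  have hy1 : (y : G) ≠ 1 := by
    intro h
    rw [h, orderOf_one] at hy'
    exact hq.one_lt.ne hy'
  refine ⟨q, hq, ?_⟩
  rw [IsPGroup.iff_orderOf]
  rintro ⟨z, hz⟩
  rw [Subgroup.orderOf_mk]
  exact exists_pow_of_commuting hpp hq hy1 hy' (hcomm z hz y y.2)

/-- A minimal normal subgroup inside a solvable subgroup is abelian. -/
theorem isMinNormal_comm_of_solvable {N : Subgroup G} (hN : IsMinNormal N)
    (hs : Group.IsSolvable N) : ∀ x ∈ N, ∀ y ∈ N, x * y = y * x := by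
  obtain ⟨hNn, hN1, hmin⟩ := hN
  have := hNn
  have h2 : ⁅N, N⁆.Normal := Subgroup.commutator_normal N N
  have h3 : ⁅N, N⁆ = ⊥ := by
    rcases hmin _ h2 (Subgroup.commutator_le_self N) with h | h
    · exact h
    · exfalso
      have hnt : Nontrivial N := (Subgroup.nontrivial_iff_ne_bot N).mpr hN1
      have h1 : ⁅(⊤ : Subgroup N), (⊤ : Subgroup N)⁆ < ⊤ :=
        Group.IsSolvable.commutator_lt_of_ne_bot top_ne_bot
      have h4 : (⁅(⊤ : Subgroup N), (⊤ : Subgroup N)⁆).map N.subtype = N := by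
        rw [Subgroup.map_commutator, ← MonoidHom.range_eq_map, Subgroup.range_subtype]
        exact h
      have h5 : ⁅(⊤ : Subgroup N), (⊤ : Subgroup N)⁆ = ⊤ := by
        apply Subgroup.map_injective N.subtype_injective
        rw [h4, ← MonoidHom.range_eq_map, Subgroup.range_subtype]
      exact h1.ne h5
  intro x hx y hy
  have h4 := Subgroup.commutator_mem_commutator hx hy
  rw [h3, Subgroup.mem_bot, commutatorElement_eq_one_iff_mul_comm] at h4
  exact h4

/-- A minimal normal subgroup that is abelian has prime exponent. -/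
theorem isMinNormal_exponent_of_comm [Finite G] {N : Subgroup G} (hN : IsMinNormal N)
    (hcomm : ∀ x ∈ N, ∀ y ∈ N, x * y = y * x) :
    ∃ p : ℕ, p.Prime ∧ ∀ x ∈ N, x ^ p = 1 := by
  classical
  obtain ⟨hNn, hN1, hmin⟩ := hN
  have := hNn
  have : Nontrivial N := (Subgroup.nontrivial_iff_ne_bot N).mpr hN1
  obtain ⟨p, hp⟩ : ∃ p, p.Prime ∧ p ∣ Nat.card N := by
    refine ⟨(Nat.card N).minFac, Nat.minFac_prime ?_, Nat.minFac_dvd _⟩
    exact Finite.one_lt_card.ne'
  have : Fact p.Prime := ⟨hp.1⟩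
  refine ⟨p, hp.1, ?_⟩
  let S : Subgroup G :=
    { carrier := {x | x ∈ N ∧ x ^ p = 1}
      one_mem' := ⟨N.one_mem, one_pow _⟩
      mul_mem' := by
        rintro a b ⟨ha, ha'⟩ ⟨hb, hb'⟩
        refine ⟨N.mul_mem ha hb, ?_⟩
        have hc : Commute a b := hcomm a ha b hb
        rw [hc.mul_pow, ha', hb', one_mul]
      inv_mem' := by
        rintro a ⟨ha, ha'⟩
        exact ⟨N.inv_mem ha, by rw [inv_pow, ha', inv_one]⟩ }
  have hSnormal : S.Normal := ⟨by
    rintro x ⟨hx, hx'⟩ g
    refine ⟨hNn.conj_mem x hx g, ?_⟩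
    rw [conj_pow, hx', mul_one, mul_inv_cancel]⟩
  have hSle : S ≤ N := fun x hx => hx.1
  obtain ⟨y, hy⟩ := exists_prime_orderOf_dvd_card' p hp.2
  have hS1 : S ≠ ⊥ := by
    intro hb
    have : (y : G) ∈ S := ⟨y.2, by
      have := pow_orderOf_eq_one y
      rw [hy] at this
      exact_mod_cast congrArg Subtype.val this⟩
    rw [hb, Subgroup.mem_bot] at this
    have hy1 : y = 1 := Subtype.ext this
    rw [hy1, orderOf_one] at hy
    exact hp.1.one_lt.ne hy
  rcases hmin S hSnormal hSle with h | h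
  · exact absurd h hS1
  · intro x hx
    rw [← h] at hx
    exact hx.2

/-- A nontrivial solvable normal subgroup contains a nontrivial elementary abelian normal
subgroup. -/
theorem exists_elemAbelian_of_solvable [Finite G] {K : Subgroup G} (hK : K.Normal)
    (hs : Group.IsSolvable K) (hK1 : K ≠ ⊥) :
    ∃ (N : Subgroup G) (p : ℕ), p.Prime ∧ N ≤ K ∧ N.Normal ∧ N ≠ ⊥ ∧
      (∀ x ∈ N, ∀ y ∈ N, x * y = y * x) ∧ ∀ x ∈ N, x ^ p = 1 := by
  obtain ⟨N, hN, hle⟩ := exists_isMinNormal_le K hK hK1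
  have hsN : Group.IsSolvable N := by
    exact Group.isSolvable_of_isSolvable_injective (f := Subgroup.inclusion hle)
      (Subgroup.inclusion_injective hle)
  have hcomm := isMinNormal_comm_of_solvable hN hsN
  obtain ⟨p, hp, hexp⟩ := isMinNormal_exponent_of_comm hN hcomm
  exact ⟨N, p, hp, hle, hN.1, hN.2.1, hcomm, hexp⟩

theorem isSolvable_of_isPGroup [Finite G] {p : ℕ} (hp : p.Prime) (h : IsPGroup p G) :
    Group.IsSolvable G := by
  have : Fact p.Prime := ⟨hp⟩
  have : Group.IsNilpotent G := h.isNilpotent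
  infer_instance

/-- The solvable radical of a nonsolvable group with elements of prime power order is a `p`-group. -/
theorem radical_isPGroup [Finite G] (hns : ¬ Group.IsSolvable G)
    (hpp : ∀ g : G, g ≠ 1 → IsPrimePow (orderOf g))
    (R : Subgroup G) (hRn : R.Normal) (hRs : Group.IsSolvable R) :
    ∃ p : ℕ, p.Prime ∧ IsPGroup p R := by
  classical
  by_cases hR1 : R = ⊥
  · rw [hR1]
    exact ⟨2, Nat.prime_two, IsPGroup.of_bot⟩
  obtain ⟨V, p, hp, hVR, hVn, hV1, hVc, hVe⟩ := exists_elemAbelian_of_solvable hRn hRs hR1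
  have hfp : Fact p.Prime := ⟨hp⟩
  have hVp : IsPGroup p V := isPGroup_of_pow_eq_one hVe
  have hVP : V ≤ pCore p G := le_pCore hVn hVp
  set P := pCore p G with hP
  have hPn : P.Normal := pCore_normal p G
  have hPp : IsPGroup p P := pCore_isPGroup
  refine ⟨p, hp, ?_⟩
  by_contra hRnp
  have hRP : ¬ R ≤ P := fun h => hRnp (hPp.to_le h)
  set f := QuotientGroup.mk' P with hf
  have hfs : Function.Surjective f := QuotientGroup.mk'_surjective P
  have hRbar : (R.map f).Normal := hRn.map f hfs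
  have hRbars : Group.IsSolvable (R.map f) :=
    Group.isSolvable_of_surjective (f := f.subgroupMap R) (f.subgroupMap_surjective R)
  have hRbar1 : R.map f ≠ ⊥ := by
    intro h
    apply hRP
    rw [Subgroup.map_eq_bot_iff, QuotientGroup.ker_mk'] at h
    exact h
  obtain ⟨Nb, r, hr, -, hNbn, hNb1, hNbc, hNbe⟩ := exists_elemAbelian_of_solvable hRbar hRbars hRbar1
  have hfr : Fact r.Prime := ⟨hr⟩
  have hNbp : IsPGroup r Nb := isPGroup_of_pow_eq_one hNbe
  have hrp : r ≠ p := by
    rintro rfl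
    apply hNb1
    have h1 : Nb ≤ pCore r (G ⧸ P) := le_pCore hNbn hNbp
    have h2 : pCore r (G ⧸ P) = ⊥ := pCore_quotient_eq_bot
    rw [h2] at h1
    exact le_bot_iff.mp h1
  set M := Nb.comap f with hM
  have hMn : M.Normal := hNbn.comap f
  have hPM : P ≤ M := by
    intro x hx
    rw [hM, Subgroup.mem_comap]
    have : f x = 1 := (QuotientGroup.eq_one_iff x).mpr hx
    rw [this]
    exact Subgroup.one_mem _
  -- a Sylow subgroup of `M`
  obtain ⟨Q⟩ : Nonempty (Sylow r M) := inferInstance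
  set Q₁ := (Q : Subgroup M).map M.subtype with hQ₁
  have hQ₁p : IsPGroup r Q₁ := Q.isPGroup'.map _
  have hQ₁M : Q₁ ≤ M := Subgroup.map_subtype_le _
  have hMNb : ∀ y ∈ Nb, ∃ x ∈ M, f x = y := by
    intro y hy
    obtain ⟨x, rfl⟩ := hfs y
    exact ⟨x, hy, rfl⟩
  have hQ₁1 : Q₁ ≠ ⊥ := by
    have hnt : Nontrivial Nb := (Subgroup.nontrivial_iff_ne_bot Nb).mpr hNb1
    have hyo : r ∣ Nat.card Nb := by
      obtain ⟨k, hk⟩ := (IsPGroup.iff_card.mp hNbp)
      rw [hk]
      refine dvd_pow_self r ?_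
      rintro rfl
      rw [pow_zero] at hk
      exact (Finite.one_lt_card (α := Nb)).ne' hk
    have hsurj : Function.Surjective ((f.comp M.subtype).codRestrict Nb (fun x => x.2)) := by
      rintro ⟨y, hy⟩
      obtain ⟨x, hx, hxy⟩ := hMNb y hy
      exact ⟨⟨x, hx⟩, Subtype.ext hxy⟩
    have hdvd : Nat.card Nb ∣ Nat.card M := card_dvd_of_surjective _ hsurj
    have hQne := Q.ne_bot_of_dvd_card (hyo.trans hdvd)
    intro h
    apply hQne
    exact (Subgroup.map_eq_bot_iff_of_injective _ M.subtype_injective).mp h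
  have hinf : ∀ x, x ∈ Q₁ → x ∈ P → x = 1 := by
    intro x hx hxP
    have h1 : (Nat.card Q₁).Coprime (Nat.card P) := by
      obtain ⟨i, hi⟩ := IsPGroup.iff_card.mp hQ₁p
      obtain ⟨j, hj⟩ := IsPGroup.iff_card.mp hPp
      rw [hi, hj]
      exact Nat.Coprime.pow _ _ ((Nat.coprime_primes hr hp).mpr hrp)
    have h2 : orderOf x ∣ Nat.card Q₁ := Subgroup.orderOf_dvd_natCard _ hx
    have h3 : orderOf x ∣ Nat.card P := Subgroup.orderOf_dvd_natCard _ hxP
    have h4 := Nat.eq_one_of_dvd_coprimes h1 h2 h3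
    exact orderOf_eq_one_iff.mp h4
  have hQ₁c : ∀ a ∈ Q₁, ∀ b ∈ Q₁, a * b = b * a := by
    intro a ha b hb
    have h1 : f (a * b * a⁻¹ * b⁻¹) = 1 := by
      have h2 := hNbc (f a) (hQ₁M ha) (f b) (hQ₁M hb)
      rw [map_mul, map_mul, map_mul, map_inv, map_inv, h2]
      group
    have h3 : a * b * a⁻¹ * b⁻¹ ∈ P := (QuotientGroup.eq_one_iff _).mp h1
    have h4 : a * b * a⁻¹ * b⁻¹ ∈ Q₁ :=
      Q₁.mul_mem (Q₁.mul_mem (Q₁.mul_mem ha hb) (Q₁.inv_mem ha)) (Q₁.inv_mem hb)
    have h5 := hinf _ h4 h3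
    have h6 : a * b * a⁻¹ = b := by
      rwa [mul_inv_eq_one] at h5
    rw [mul_inv_eq_iff_eq_mul] at h6
    exact h6
  have hfpf : ∀ a ∈ Q₁, a ≠ 1 → ∀ v ∈ V, a * v = v * a → v = 1 := by
    intro a ha ha1 v hv hav
    by_contra hv1
    have hco : (orderOf a).Coprime (orderOf v) := by
      obtain ⟨i, hi⟩ := (IsPGroup.iff_orderOf.mp hQ₁p) ⟨a, ha⟩
      obtain ⟨j, hj⟩ := (IsPGroup.iff_orderOf.mp hVp) ⟨v, hv⟩
      rw [Subgroup.orderOf_mk] at hi hj
      rw [hi, hj]
      exact Nat.Coprime.pow _ _ ((Nat.coprime_primes hr hp).mpr hrp)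
    exact false_of_commute_coprime hpp ha1 hv1 hav hco
  have hQcyc : IsCyclic Q₁ := Cfsg.Agent.Lib.FPF.Concrete.isCyclic_of_comm Q₁ V hVc hV1
    (by rw [Subgroup.normalizer_eq_top_iff.mpr hVn]; exact le_top) hfpf hQ₁c
  -- The normalizer of `Q₁` is solvable
  obtain ⟨t, ht, hCp⟩ := isPGroup_of_commuting hpp
    (L := Subgroup.centralizer (Q₁ : Set G)) (L' := Q₁)
    (fun x hx y hy => ((Subgroup.mem_centralizer_iff.mp hx) y hy).symm) hQ₁1
  have hNNs : Group.IsSolvable (Subgroup.normalizer (Q₁ : Set G)) := by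
    have hAutComm : Group.IsSolvable (MulAut Q₁) :=
      Group.isSolvable_of_surjective (f := (IsCyclic.mulAutMulEquiv Q₁).symm.toMonoidHom)
        (IsCyclic.mulAutMulEquiv Q₁).symm.surjective
    have hkerS : Group.IsSolvable (Q₁.normalizerMonoidHom.ker) := by
      apply isSolvable_of_isPGroup ht
      rintro ⟨x, hx⟩
      rw [Subgroup.normalizerMonoidHom_ker] at hx
      obtain ⟨k, hk⟩ := hCp ⟨x.1, hx⟩
      refine ⟨k, ?_⟩
      apply Subtype.ext
      apply Subtype.ext
      have h9 := congrArg Subtype.val hk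
      simpa using h9
    exact Group.isSolvable_of_ker_le_range (Q₁.normalizerMonoidHom.ker.subtype) Q₁.normalizerMonoidHom
      (by rw [Subgroup.range_subtype])
  -- `M` is solvable
  have hPs : Group.IsSolvable P := isSolvable_of_isPGroup hp hPp
  have hMs : Group.IsSolvable M := by
    have hNbs : Group.IsSolvable Nb := isSolvable_of_isPGroup hr hNbp
    refine Group.isSolvable_of_ker_le_range (Subgroup.inclusion hPM)
      ((f.comp M.subtype).codRestrict Nb (fun x => x.2)) ?_
    intro x hx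
    have h1 : f x = 1 := congrArg Subtype.val hx
    exact ⟨⟨x, (QuotientGroup.eq_one_iff _).mp h1⟩, rfl⟩
  -- Frattini
  have hFrat : (Subgroup.normalizer (Q₁ : Set G)) ⊔ M = ⊤ := Sylow.normalizer_sup_eq_top Q
  have hquot : Group.IsSolvable (G ⧸ M) := by
    have hsurj : Function.Surjective ((QuotientGroup.mk' M).comp (Subgroup.normalizer (Q₁ : Set G)).subtype) := by
      intro y
      obtain ⟨g, rfl⟩ := QuotientGroup.mk'_surjective M y
      have hg : g ∈ (Subgroup.normalizer (Q₁ : Set G)) ⊔ M := by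
        rw [hFrat]
        exact Subgroup.mem_top g
      rw [← SetLike.mem_coe, Subgroup.mul_normal] at hg
      obtain ⟨n, hn, m, hm, rfl⟩ := hg
      refine ⟨⟨n, hn⟩, ?_⟩
      simp only [MonoidHom.comp_apply, Subgroup.subtype_apply]
      rw [map_mul]
      have : QuotientGroup.mk' M m = 1 := (QuotientGroup.eq_one_iff m).mpr hm
      rw [this, mul_one]
    exact Group.isSolvable_of_surjective hsurj
  apply hns
  refine Group.isSolvable_of_ker_le_range M.subtype (QuotientGroup.mk' M) ?_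
  rw [QuotientGroup.ker_mk', Subgroup.range_subtype]

/-- A normal `q`-subgroup is trivial when all solvable normal subgroups are trivial. -/
theorem eq_bot_of_isPGroup_of_rad [Finite G] (hrad : ∀ N : Subgroup G, N.Normal → Group.IsSolvable N → N = ⊥)
    {N : Subgroup G} (hn : N.Normal) {q : ℕ} (hq : q.Prime) (hp : IsPGroup q N) : N = ⊥ :=
  hrad N hn (isSolvable_of_isPGroup hq hp)

/-- The unique minimal normal subgroup in a group with trivial solvable radical and elements of
prime power order. -/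
theorem exists_simple_normal [Finite G] [Nontrivial G]
    (hpp : ∀ g : G, g ≠ 1 → IsPrimePow (orderOf g))
    (hrad : ∀ N : Subgroup G, N.Normal → Group.IsSolvable N → N = ⊥) :
    ∃ M : Subgroup G, M.Normal ∧ IsSimpleGroup M ∧ ¬ IsMulCommutative M ∧
      ∀ N : Subgroup G, N.Normal → N ≠ ⊥ → M ≤ N := by
  classical
  obtain ⟨M, hM⟩ := exists_isMinNormal (G := G)
  have hMn := hM.1
  have hM1 := hM.2.1
  have hMmin := hM.2.2
  have hMnt : Nontrivial M := (Subgroup.nontrivial_iff_ne_bot M).mpr hM1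
  have hMns : ¬ Group.IsSolvable M := fun h => hM1 (hrad M hMn h)
  have hpcore : ∀ q : ℕ, q.Prime → pCore q G = ⊥ := by
    intro q hq
    have hfq : Fact q.Prime := ⟨hq⟩
    exact eq_bot_of_isPGroup_of_rad hrad (pCore_normal q G) hq pCore_isPGroup
  have hle : ∀ N : Subgroup G, N.Normal → N ≠ ⊥ → M ≤ N := by
    intro N hN hN1
    by_contra hnle
    have hinf : M ⊓ N = ⊥ := by
      rcases hMmin (M ⊓ N) (Subgroup.normal_inf_normal M N) inf_le_left with h | h
      · exact h
      · exact absurd (inf_eq_left.mp h) hnle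
    have hdisj : Disjoint M N := disjoint_iff.mpr hinf
    have hc : ∀ x ∈ M, ∀ y ∈ N, x * y = y * x := fun x hx y hy =>
      Subgroup.commute_of_normal_of_disjoint _ _ hMn hN hdisj x y hx hy
    obtain ⟨q, hq, hqp⟩ := isPGroup_of_commuting hpp hc hN1
    exact hM1 (eq_bot_of_isPGroup_of_rad hrad hMn hq hqp)
  refine ⟨M, hMn, ?_, ?_, hle⟩
  · refine ⟨fun H hH => ?_⟩
    by_contra hcon
    push Not at hcon
    obtain ⟨hH1, hHt⟩ := hcon
    obtain ⟨L, hL, hLH⟩ := exists_isMinNormal_le H hH hH1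
    have hLn := hL.1
    have hL1 := hL.2.1
    have hLmin := hL.2.2
    have hLt : L ≠ ⊤ := fun h => hHt (top_le_iff.mp (h ▸ hLH))
    set Lt := L.map M.subtype with hLt'
    have hLtM : Lt ≤ M := Subgroup.map_subtype_le _
    have hLt1 : Lt ≠ ⊥ := by
      intro h
      exact hL1 ((Subgroup.map_eq_bot_iff_of_injective _ M.subtype_injective).mp h)
    by_cases hconj : ∀ g : G, MulAut.conj g • Lt = Lt
    · -- `Lt` normal in `G`
      have hLtn : Lt.Normal := by
        constructor
        intro x hx g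
        have h1 : g * x * g⁻¹ ∈ MulAut.conj g • Lt := by
          rw [Cfsg.Agent.Lib.Solvable.Hall.mem_conj_smul_iff]
          have h3 : g⁻¹ * (g * x * g⁻¹) * g = x := by group
          rwa [h3]
        rwa [hconj g] at h1
      rcases hMmin Lt hLtn hLtM with h | h
      · exact hLt1 h
      · apply hLt
        apply Subgroup.map_injective M.subtype_injective
        rw [← hLt', h, ← MonoidHom.range_eq_map, Subgroup.range_subtype]
    · push Not at hconj
      obtain ⟨g, hg⟩ := hconj
      set L₂ := (MulAut.conj g • Lt).subgroupOf M with hL₂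
      have hcard : Nat.card (MulAut.conj g • Lt : Subgroup G) = Nat.card Lt :=
        Nat.card_congr ((MulAut.conj g).subgroupMap Lt).symm.toEquiv
      have hmem : ∀ x : G, x ∈ (MulAut.conj g • Lt : Subgroup G) ↔ g⁻¹ * x * g ∈ Lt := fun x =>
        Cfsg.Agent.Lib.Solvable.Hall.mem_conj_smul_iff
      have hLg : (MulAut.conj g • Lt : Subgroup G) ≤ M := by
        intro x hx
        have h1 := hLtM ((hmem x).mp hx)
        have h2 := hMn.conj_mem _ h1 g
        have h3 : g * (g⁻¹ * x * g) * g⁻¹ = x := by group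
        rwa [h3] at h2
      have hL₂n : L₂.Normal := by
        constructor
        rintro ⟨x, hxM⟩ hx ⟨m, hm⟩
        rw [hL₂, Subgroup.mem_subgroupOf] at hx ⊢
        have hx' := (hmem x).mp hx
        obtain ⟨l, hl, hlx⟩ := hx'
        have hm' : g⁻¹ * m * g ∈ M := by
          have := hMn.conj_mem m hm g⁻¹
          simpa using this
        have h1 : (⟨g⁻¹ * m * g, hm'⟩ * l * (⟨g⁻¹ * m * g, hm'⟩)⁻¹ : M) ∈ L :=
          hLn.conj_mem l hl _
        apply (hmem _).mpr
        refine ⟨_, h1, ?_⟩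
        simp only [Subgroup.coe_mul, Subgroup.coe_inv, Subgroup.subtype_apply] at hlx ⊢
        rw [hlx]
        group
      have hinfn : (L ⊓ L₂).Normal := Subgroup.normal_inf_normal L L₂
      rcases hLmin (L ⊓ L₂) hinfn inf_le_left with h | h
      · -- commuting case
        have hdisj : Disjoint L L₂ := disjoint_iff.mpr h
        have hc : ∀ x ∈ L, ∀ y ∈ L₂, x * y = y * x := fun x hx y hy =>
          Subgroup.commute_of_normal_of_disjoint _ _ hLn hL₂n hdisj x y hx hy
        have hL₂1 : L₂ ≠ ⊥ := by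
          intro h0
          have h2 : (MulAut.conj g • Lt : Subgroup G) = ⊥ := by
            rw [eq_bot_iff]
            intro x hx
            have h3 : (⟨x, hLg hx⟩ : M) ∈ L₂ := by
              rw [hL₂, Subgroup.mem_subgroupOf]
              exact hx
            rw [h0, Subgroup.mem_bot] at h3
            have h4 := congrArg Subtype.val h3
            simpa using h4
          apply hLt1
          rw [h2, Subgroup.card_bot] at hcard
          exact Subgroup.eq_bot_of_card_eq _ hcard.symm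
        have hppM : ∀ x : M, x ≠ 1 → IsPrimePow (orderOf x) := by
          intro x hx
          rw [← Subgroup.orderOf_coe]
          exact hpp _ (fun h => hx (Subtype.ext h))
        obtain ⟨q, hq, hqp⟩ := isPGroup_of_commuting hppM hc hL₂1
        have hfq : Fact q.Prime := ⟨hq⟩
        have h5 : L ≤ pCore q M := le_pCore hLn hqp
        have h6 : (pCore q M).map M.subtype ≤ pCore q G :=
          map_pCore_le_of_isSubnormal hMn.isSubnormal
        rw [hpcore q hq] at h6
        apply hLt1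
        rw [eq_bot_iff]
        exact (Subgroup.map_mono h5).trans h6
      · -- containment
        have h7 : L ≤ L₂ := inf_eq_left.mp h
        have h8 : Lt ≤ MulAut.conj g • Lt := by
          rintro _ ⟨l, hl, rfl⟩
          have h9 := h7 hl
          rw [hL₂, Subgroup.mem_subgroupOf] at h9
          exact h9
        exact hg (Subgroup.eq_of_le_of_card_ge h8 hcard.le).symm
  · intro hcomm
    apply hMns
    have hcm : ∀ a b : M, a * b = b * a := fun a b => hcomm.is_comm.comm a b
    let _ : CommGroup M := { (inferInstance : Group M) with mul_comm := hcm }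
    infer_instance

end Cfsg.Agent.Lib.Solvable.EPPO2

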