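import Cfsg.Agent.Lib.Char.Burnside
import Cfsg.Agent.Lib.Solvable.Misc1

/-!
# Groups with an abelian subgroup of prime power index are solvable
-/

set_option autoImplicit false

open scoped Pointwise

namespace Cfsg.Agent.Lib.Solvable.AbelianIndex

open Cfsg Cfsg.Agent.Lib.Solvable.Misc1

/-- A group with an abelian subgroup of prime power index is solvable. -/
theorem isSolvable_of_abelian_of_prime_power_index {G : Type*} [Group G] [Finite G] (A : Subgroup G)
    (hA : ∀ x ∈ A, ∀ y ∈ A, x * y = y * x) (p k : ℕ) (hp : p.Prime) (hidx : A.index = p ^ k) :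
    Group.IsSolvable G := by
  classical
  induction hc : Nat.card G using Nat.strong_induction_on generalizing G k with
  | _ c ih =>
  subst hc
  rcases subsingleton_or_nontrivial G with hsub | hnt
  · infer_instance
  by_cases hs : ∀ N : Subgroup G, N.Normal → N = ⊥ ∨ N = ⊤
  · have hsim : IsSimpleGroup G := ⟨hs⟩
    by_cases hbot : A = ⊥
    · have h1 : Nat.card G = p ^ k := by
        rw [← hidx, hbot, Subgroup.index_bot]
      have : Fact p.Prime := ⟨hp⟩
      have hpg : IsPGroup p G := IsPGroup.of_card h1
      have := hpg.isNilpotent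
      infer_instance
    · obtain ⟨a, ha, ha1⟩ := (Subgroup.ne_bot_iff_exists_ne_one.mp hbot).imp
        (fun a ha => ha) |> fun ⟨a, ha⟩ => (⟨a.1, a.2, fun e => ha (Subtype.ext e)⟩ :
          ∃ x : G, x ∈ A ∧ x ≠ 1)
      have hle : A ≤ Subgroup.centralizer ({a} : Set G) := by
        intro x hx
        rw [Subgroup.mem_centralizer_singleton_iff]
        exact hA x hx a ha
      have hd : (Subgroup.centralizer ({a} : Set G)).index ∣ p ^ k := by
        rw [← hidx]
        exact Subgroup.index_dvd_of_le hle
      obtain ⟨j, -, hj⟩ := (Nat.dvd_prime_pow hp).mp hd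
      have hprime := Cfsg.Agent.Lib.Char.Burnside.prime_card_of_simple_of_prime_power_class p j hp a
        ha1 hj
      have : Fact (Nat.card G).Prime := ⟨hprime⟩
      have hcyc : IsCyclic G := isCyclic_of_prime_card rfl
      let _ : CommGroup G := IsCyclic.commGroup
      infer_instance
  · push Not at hs
    obtain ⟨N, hNn, hNb, hNt⟩ := hs
    have hlt1 : Nat.card (G ⧸ N) < Nat.card G := by
      have h1 := Subgroup.card_eq_card_quotient_mul_card_subgroup N
      have h2 : 1 < Nat.card N := by
        rw [Subgroup.one_lt_card_iff_ne_bot]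
        exact hNb
      rw [h1]
      have h3 : 0 < Nat.card (G ⧸ N) := Nat.card_pos
      nlinarith
    have hlt2 : Nat.card N < Nat.card G := by
      refine lt_of_le_of_ne (Subgroup.card_le_card_group N) ?_
      intro h
      exact hNt (Subgroup.eq_top_of_card_eq N h)
    -- `G / N`
    have hQ : Group.IsSolvable (G ⧸ N) := by
      have hd : (A.map (QuotientGroup.mk' N)).index ∣ p ^ k := by
        rw [← hidx]
        exact Subgroup.index_map_dvd _ (QuotientGroup.mk'_surjective N)
      obtain ⟨j, -, hj⟩ := (Nat.dvd_prime_pow hp).mp hd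
      refine ih _ hlt1 (A.map (QuotientGroup.mk' N)) ?_ j hj rfl
      rintro _ ⟨x, hx, rfl⟩ _ ⟨y, hy, rfl⟩
      rw [← map_mul, ← map_mul, hA x hx y hy]
    -- `N`
    have hNs : Group.IsSolvable N := by
      have hd : (A.subgroupOf N).index ∣ p ^ k := by
        have h1 : (A.subgroupOf N).index = A.relIndex N := rfl
        rw [h1, ← relIndex_sup_eq A N, ← hidx, ← Subgroup.relIndex_mul_index (le_sup_left : A ≤ A ⊔ N)]
        exact Dvd.intro _ rfl
      obtain ⟨j, -, hj⟩ := (Nat.dvd_prime_pow hp).mp hd
      refine ih _ hlt2 (A.subgroupOf N) ?_ j hj rfl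
      intro x hx y hy
      exact Subtype.ext (hA _ hx _ hy)
    exact Group.isSolvable_of_ker_le_range N.subtype (QuotientGroup.mk' N) (by
      rw [QuotientGroup.ker_mk', Subgroup.range_subtype])

end Cfsg.Agent.Lib.Solvable.AbelianIndex
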