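import Cfsg.Agent.Lib.FPF.Concrete
import Cfsg.Agent.Lib.Solvable.Misc1

/-!
# Solvable groups all of whose elements have prime power order
-/

set_option autoImplicit false

open scoped Pointwise

namespace Cfsg.Agent.Lib.Solvable.EPPO

open Cfsg Cfsg.Agent.Lib.Solvable.Basic Cfsg.Agent.Lib.Solvable.Hall
  Cfsg.Agent.Lib.FPF

/-- **Higman**: a finite solvable group in which each element has prime power order has order
divisible by at most two primes. -/
theorem card_primeFactors_le_two {G : Type*} [Group G] [Finite G] [Group.IsSolvable G]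
    (h : ∀ g : G, IsPrimePow (orderOf g) ∨ g = 1) : (Nat.card G).primeFactors.card ≤ 2 := by
  classical
  have hEP : ∀ (g : G) (r s : ℕ), r.Prime → s.Prime → r ∣ orderOf g → s ∣ orderOf g → r = s := by
    intro g r s hr hs hrg hsg
    rcases h g with hg | rfl
    · obtain ⟨t, k, ht, -, hk⟩ := (isPrimePow_nat_iff _).mp hg
      rw [← hk] at hrg hsg
      have h1 := (Nat.prime_dvd_prime_iff_eq hr ht).mp (hr.dvd_of_dvd_pow hrg)
      have h2 := (Nat.prime_dvd_prime_iff_eq hs ht).mp (hs.dvd_of_dvd_pow hsg)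
      rw [h1, h2]
    · rw [orderOf_one] at hrg
      exact absurd (Nat.dvd_one.mp hrg) hr.ne_one
  rcases subsingleton_or_nontrivial G with hsub | hnt
  · rw [Nat.card_unique]
    simp
  obtain ⟨V, p, hp, hV, hcomm, hexp⟩ := exists_normal_elemAbelian (G := G)
  have hVn := hV.1
  have hVne := hV.2.1
  have : Fact p.Prime := ⟨hp⟩
  -- a Hall `p'`-subgroup
  obtain ⟨a, m, hm, hnm⟩ := Nat.exists_eq_pow_mul_and_not_dvd (Nat.card_pos (α := G)).ne' p hp.ne_one
  have hcop : m.Coprime (p ^ a) :=
    Nat.Coprime.pow_right _ (((Nat.Prime.coprime_iff_not_dvd hp).mpr hm).symm)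
  obtain ⟨H, hH⟩ := exists_card_eq m (p ^ a) (by rw [hnm, Nat.mul_comm]) hcop
  have hfpf : ∀ x ∈ H, x ≠ 1 → ∀ v ∈ V, x * v = v * x → v = 1 := by
    intro x hx hx1 v hv hxv
    by_contra hv1
    have hov : orderOf v = p := orderOf_eq_prime (hexp v hv) hv1
    obtain ⟨t, ht, htx⟩ := Nat.exists_prime_and_dvd (orderOf_eq_one_iff.not.mpr hx1)
    have hxH : orderOf x ∣ m := by
      have h1 := Subgroup.orderOf_dvd_natCard H hx
      rwa [hH] at h1
    have htp : t ≠ p := by
      rintro rfl
      exact hm (htx.trans hxH)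
    have hc : Commute x v := hxv
    have hcop2 : (orderOf x).Coprime (orderOf v) := by
      rw [hov]
      exact ((Nat.Prime.coprime_iff_not_dvd hp).mpr (fun hd => hm (hd.trans hxH))).symm
    have ho := hc.orderOf_mul_eq_mul_orderOf_of_coprime hcop2
    have h1 : t ∣ orderOf (x * v) := by
      rw [ho]
      exact Dvd.dvd.mul_right htx _
    have h2 : p ∣ orderOf (x * v) := by
      rw [ho, hov]
      exact Dvd.intro_left _ rfl
    exact htp (hEP _ t p ht hp h1 h2)
  have hVnorm : ∀ A : Subgroup G, A ≤ Subgroup.normalizer (V : Set G) := by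
    intro A
    rw [Subgroup.normalizer_eq_top_iff.mpr hVn]
    exact le_top
  -- at most one prime divides `|H|`
  have hone : ∀ r₁ r₂ : ℕ, r₁.Prime → r₂.Prime → r₁ ∣ m → r₂ ∣ m → r₁ = r₂ := by
    intro r₁ r₂ hr₁ hr₂ h₁ h₂
    by_contra hne
    have hHnt : Nontrivial H := by
      rw [← Finite.one_lt_card_iff_nontrivial, hH]
      exact lt_of_lt_of_le hr₁.one_lt (Nat.le_of_dvd (Nat.pos_of_ne_zero (by
        rintro rfl
        simp at hnm
        exact (Nat.card_pos (α := G)).ne' hnm)) h₁)
    obtain ⟨N₀, q, hq, hN₀, hcN₀, hexpN₀⟩ := exists_normal_elemAbelian (G := H)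
    have hN₀n := hN₀.1
    have : Fact q.Prime := ⟨hq⟩
    set N := N₀.map H.subtype with hN
    have hNH : N ≤ H := by
      rintro _ ⟨x, -, rfl⟩
      exact x.2
    have hNcyc : IsCyclic N := by
      refine Concrete.isCyclic_of_comm N V hcomm hVne (hVnorm N)
        (fun a ha ha1 v hv h => hfpf a (hNH ha) ha1 v hv h) ?_
      rintro _ ⟨x, hx, rfl⟩ _ ⟨y, hy, rfl⟩
      exact congrArg Subtype.val (hcN₀ x hx y hy)
    have hNcard : Nat.card N = q := by
      obtain ⟨g, hg⟩ := hNcyc.exists_generator
      have h1 : orderOf g = Nat.card N := orderOf_eq_card_of_forall_mem_zpowers hg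
      obtain ⟨⟨x, hx⟩, hxN, hxg⟩ := g.2
      have hg1 : g ≠ 1 := by
        intro hg1
        apply hN₀.2.1
        rw [eq_bot_iff]
        intro z hz
        have hzN : (z : G) ∈ N := Subgroup.mem_map_of_mem _ hz
        have h2 := hg ⟨z, hzN⟩
        rw [hg1, Subgroup.mem_zpowers_iff] at h2
        obtain ⟨k, hk⟩ := h2
        rw [one_zpow] at hk
        have h5 : ((⟨z, hzN⟩ : N) : G) = 1 := congrArg Subtype.val hk.symm
        rw [Subgroup.mem_bot]
        exact Subtype.ext h5
      have h2 : g ^ q = 1 := by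
        apply Subtype.ext
        have h3 := hexpN₀ ⟨x, hx⟩ hxN
        have h4 := congrArg Subtype.val h3
        simp only [Subgroup.coe_pow, Subgroup.coe_one] at h4 ⊢
        rw [← hxg]
        exact h4
      rw [← h1]
      exact orderOf_eq_prime h2 hg1
    -- a prime different from `q`
    obtain ⟨r, hr, hrm, hrq⟩ : ∃ r : ℕ, r.Prime ∧ r ∣ m ∧ r ≠ q := by
      by_cases h₃ : r₁ = q
      · exact ⟨r₂, hr₂, h₂, fun h₄ => hne (h₃.trans h₄.symm)⟩
      · exact ⟨r₁, hr₁, h₁, h₃⟩
    have : Fact r.Prime := ⟨hr⟩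
    obtain ⟨y, hy⟩ := exists_prime_orderOf_dvd_card' (G := H) r (by rwa [hH])
    set Y := Subgroup.zpowers y with hY
    have hYcard : Nat.card Y = r := by
      rw [hY, Nat.card_zpowers, hy]
    have hN₀card : Nat.card N₀ = q := by
      rw [← hNcard]
      exact (Subgroup.card_map_of_injective H.subtype_injective).symm
    have hinf : Y ⊓ N₀ = ⊥ := by
      apply disjoint_iff.mp
      apply Subgroup.disjoint_of_coprime_natCard
      rw [hYcard, hN₀card]
      exact (Nat.coprime_primes hr hq).mpr hrq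
    have hsup := card_sup_mul_card_inf Y N₀
    rw [hinf, Subgroup.card_bot, mul_one, hYcard, hN₀card] at hsup
    set B := (Y ⊔ N₀).map H.subtype with hB
    have hBcard : Nat.card B = r * q := by
      rw [hB, Subgroup.card_map_of_injective H.subtype_injective, hsup]
    have hBH : B ≤ H := by
      rintro _ ⟨x, -, rfl⟩
      exact x.2
    have hBcyc : IsCyclic B := Concrete.isCyclic_of_card_mul B V hcomm hVne (hVnorm B)
      (fun a ha ha1 v hv h => hfpf a (hBH ha) ha1 v hv h) hr hq hBcard
    obtain ⟨g, hg⟩ := hBcyc.exists_generator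
    have h1 : orderOf g = Nat.card B := orderOf_eq_card_of_forall_mem_zpowers hg
    rw [hBcard] at h1
    have h2 : orderOf (g : G) = r * q := by
      rw [Subgroup.orderOf_coe, h1]
    apply hrq
    exact hEP g r q hr hq (by rw [h2]; exact Dvd.intro _ rfl) (by rw [h2]; exact Dvd.intro_left _ rfl)
  -- conclusion
  have hsubset : (Nat.card G).primeFactors ⊆ insert p m.primeFactors := by
    intro r hr
    have hrp := Nat.prime_of_mem_primeFactors hr
    have hrd := Nat.dvd_of_mem_primeFactors hr
    rw [hnm] at hrd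
    rcases (Nat.Prime.dvd_mul hrp).mp hrd with hd | hd
    · rw [Finset.mem_insert]
      left
      exact (Nat.prime_dvd_prime_iff_eq hrp hp).mp (hrp.dvd_of_dvd_pow hd)
    · rw [Finset.mem_insert]
      right
      exact Nat.mem_primeFactors.mpr ⟨hrp, hd, by
        rintro rfl
        simp at hnm
        exact (Nat.card_pos (α := G)).ne' hnm⟩
  have hle : m.primeFactors.card ≤ 1 := by
    rw [Finset.card_le_one]
    intro a ha b hb
    exact hone a b (Nat.prime_of_mem_primeFactors ha) (Nat.prime_of_mem_primeFactors hb)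
      (Nat.dvd_of_mem_primeFactors ha) (Nat.dvd_of_mem_primeFactors hb)
  calc (Nat.card G).primeFactors.card ≤ (insert p m.primeFactors).card := Finset.card_le_card hsubset
    _ ≤ m.primeFactors.card + 1 := Finset.card_insert_le _ _
    _ ≤ 2 := by omega

end Cfsg.Agent.Lib.Solvable.EPPO
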